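import Groth.Agent.L23.EssDimRel.Trdeg
import Groth.Agent.L24.St.OfPsh
import Groth.Agent.L24.St.Yoneda
import Groth.Agent.S10423
import Groth.Agent.S10381
import Groth.Agent.S10351
import Groth.Prelude.Def_EssDim

/-!
# Essential dimension and representable morphisms of bounded relative dimension
-/

universe u

open CategoryTheory CategoryTheory.Limits AlgebraicGeometry Opposite AlgSp
open Groth.L24.St

set_option backward.isDefEq.respectTransparency false
set_option backward.isDefEq.respectTransparency.types false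
set_option linter.style.haveILetI false

namespace Groth.L23.EssDimRel

variable {k : Type u} [Field k]

theorem isDecent_yon {S : Scheme.{u}} (U : Over S) {F : Sp S} (hF : IsAlgSpace F) (π : F ⟶ (yon S).obj U)
    (hq : IsQuasiSeparatedMor π) (hU : IsDecent ((yon S).obj U)) : IsDecent F := by
  let X : AlgSp.Space S := ⟨F, hF⟩
  let Y : AlgSp.Space S := ⟨(yon S).obj U, IsAlgSpace.yon_obj U⟩
  let f : X ⟶ Y := ObjectProperty.homMk π
  exact Groth.Agent.S10381.result f ((Groth.Agent.S10423.result f).2 hq) hU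

/-- An object over a field whose image descends to a subfield descends to a field of bounded transcendence
degree over that subfield. -/
theorem descends_image (𝒳 𝒴 : AlgSt.Cat (Spec (CommRingCat.of k)))
    [FibCat.IsFibGrpd 𝒳.p] [FibCat.IsFibGrpd 𝒴.p] (F : 𝒳 ⥤ᵇ 𝒴) (d : ℕ)
    (hF : AlgSt.RepByAlgSpWith
      (AlgSp.LocP @LocallyOfFiniteType ⊓ AlgSp.IsQuasiSeparatedMor ⊓ fun _ _ g => CurvSt.RelDimLE d g) F)
    {L : Type u} [Field L] [Algebra k L] (x : StkCnt.pts 𝒳 L) (K : IntermediateField k L)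
    (y₀ : StkCnt.pts 𝒴 K) (φ : F.obj x.1 ⟶ y₀.1) (hφ : 𝒴.p.IsHomLift (EssDim.resPt K.val) φ) :
    ∃ K' : IntermediateField k L,
      (∃ (x₀ : StkCnt.pts 𝒳 K') (ψ : x.1 ⟶ x₀.1), 𝒳.p.IsHomLift (EssDim.resPt K'.val) ψ) ∧
        Cardinal.toENat (Algebra.trdeg k K') ≤ Cardinal.toENat (Algebra.trdeg k K) + d := by
  set W := SGA7.pt (K := k) L
  set U := SGA7.pt (K := k) K
  obtain ⟨G, ι, hι⟩ := exists_overCat_functor (inferInstanceAs (FibCat.IsFibGrpd 𝒴.p)) y₀.1 y₀.2
  obtain ⟨Z, e, he, ⟨hlft, hqs⟩, hdim⟩ := hF U G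
  set π := AlgSt.spMapOfOver (BasedFunctor.comp e (FibCat.fpFst G F))
  -- the point of the fibre product given by `x`
  let a : (FibCat.overCat U).obj := Over.mk (EssDim.resPt K.val)
  have hιl : 𝒴.p.IsHomLift (𝟙 U) ι.hom := hι.lift (G.w_obj _)
  have hGa : 𝒴.p.IsHomLift (EssDim.resPt K.val) (G.map (Groth.L09.Fib.toTerm a) ≫ ι.hom) := by
    have h1 : (FibCat.overCat U).p.IsHomLift (EssDim.resPt K.val) (Groth.L09.Fib.toTerm a) :=
      Groth.L09.Fib.toTerm_lift a
    have h2 : 𝒴.p.IsHomLift (EssDim.resPt K.val) (G.map (Groth.L09.Fib.toTerm a)) :=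
      (BasedFunctor.isHomLift_iff G _ _).2 h1
    infer_instance
  haveI : 𝒴.p.IsStronglyCartesian (EssDim.resPt K.val) φ :=
    Groth.L09.Fib.stronglyCartesian_of_isFibGrpd 𝒴.p inferInstance _ φ
  haveI : 𝒴.p.IsStronglyCartesian (EssDim.resPt K.val) (G.map (Groth.L09.Fib.toTerm a) ≫ ι.hom) :=
    Groth.L09.Fib.stronglyCartesian_of_isFibGrpd 𝒴.p inferInstance _ _
  let σ : G.obj a ≅ F.obj x.1 :=
    Functor.IsCartesian.domainUniqueUpToIso 𝒴.p (EssDim.resPt K.val) φ (G.map (Groth.L09.Fib.toTerm a) ≫ ι.hom)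
  have hσ : OverId σ.hom := overId_of_lift
    (R := W) (Functor.IsCartesian.domainUniqueUpToIso_inv_isHomLift 𝒴.p (EssDim.resPt K.val) φ _)
  let z : (FibCat.fp G F).obj := fpObj a x.1 σ hσ
  obtain ⟨t, et, het⟩ := eqv_exists_overId he z
  have hbase : t.base = W := (e.w_obj t).symm.trans het.eq.1
  obtain ⟨W', s⟩ := t
  change W' = W at hbase
  subst hbase
  -- the section of the space
  let q : (yon (Spec (CommRingCat.of k))).obj W ⟶ Z.obj :=
    (AlgSp.J (Spec (CommRingCat.of k))).uliftYonedaEquiv.symm s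
  have hq : q ≫ π = (yon _).map (EssDim.resPt K.val) := by
    apply (AlgSp.J (Spec (CommRingCat.of k))).uliftYonedaEquiv.injective
    rw [GrothendieckTopology.uliftYonedaEquiv_comp, Equiv.apply_symm_apply,
      GrothendieckTopology.uliftYonedaEquiv_uliftYoneda_map]
    change (π.hom.app (op W)) s = _
    rw [AlgSt.spMapOfOver_app]
    refine ULift.ext _ _ ?_
    change eqToHom _ ≫ ((e.obj ⟨W, s⟩).obj.fst).hom = EssDim.resPt K.val
    have h1 : (FibCat.overCat U).p.IsHomLift (𝟙 W) et.hom.hom.fst :=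
      (BasedFunctor.isHomLift_iff (FibCat.fpFst G F) (𝟙 W) et.hom).2 (het.lift (e.w_obj _))
    have h2 : (et.hom.hom.fst).left = eqToHom (IsHomLift.domain_eq (FibCat.overCat U).p (𝟙 W) et.hom.hom.fst) :=
      (IsHomLift.fac' (FibCat.overCat U).p (𝟙 W) et.hom.hom.fst).trans (by simp)
    have h3 : (et.hom.hom.fst).left ≫ EssDim.resPt K.val = ((e.obj ⟨W, s⟩).obj.fst).hom :=
      Over.w et.hom.hom.fst
    rw [← h3, h2, ← Category.assoc, eqToHom_trans, eqToHom_refl]
    try rw [Category.id_comp]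
  -- the residue field
  have hU : IsDecent ((yon _).obj U) := Groth.L23.Pt.isDecent_yon U
  have hdec : IsDecent Z.obj := isDecent_yon U Z.property π hqs hU
  let q' : FieldPt Z.obj := ⟨L, W.hom, s⟩
  obtain ⟨p, hp, hmono, -⟩ := hdec (Points.mk q')
  obtain ⟨c, hc, -⟩ := existsUnique_factor Z.property p q' hp
  have hc' : (yon _).map c ≫ p.toHom = q := hc
  obtain ⟨g, hg⟩ := (yon _).map_surjective (p.toHom ≫ π)
  have hcg : c ≫ g = EssDim.resPt K.val := by
    apply (yon _).map_injective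
    rw [Functor.map_comp, hg, ← Category.assoc, hc', hq]
  obtain ⟨δ, hδ⟩ := Spec.map_surjective (R := CommRingCat.of K) (S := CommRingCat.of p.K) g.left
  obtain ⟨γ, hγ⟩ := Spec.map_surjective (R := CommRingCat.of p.K) (S := CommRingCat.of L) c.left
  have hval : δ ≫ γ = CommRingCat.ofHom (K.val : K →+* L) := by
    apply Spec.map_injective
    rw [Spec.map_comp, hδ, hγ]
    exact congrArg CommaMorphism.left hcg
  letI aKp : Algebra K p.K := δ.hom.toAlgebra
  letI akp : Algebra k p.K := (δ.hom.comp (algebraMap k K)).toAlgebra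
  haveI : IsScalarTower k K p.K := IsScalarTower.of_algebraMap_eq fun _ => rfl
  let γ' : p.K →ₐ[k] L :=
    { γ.hom with
      commutes' := fun r => by
        change γ.hom (δ.hom (algebraMap k K r)) = _
        exact congr($(hval).hom (algebraMap k K r)) }
  refine ⟨γ'.fieldRange, ?_, ?_⟩
  · let K' := γ'.fieldRange
    let eK : p.K ≃ₐ[k] K' := AlgEquiv.ofInjectiveField γ'
    let cK : SGA7.pt (K := k) K' ⟶ p.pt := Over.homMk (Spec.map (CommRingCat.ofHom (eK : p.K →+* K'))) (by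
      change _ ≫ p.str = Spec.map (CommRingCat.ofHom (algebraMap k K'))
      have hstr : p.str = Spec.map δ ≫ U.hom := by rw [hδ]; exact (Over.w g).symm
      rw [hstr, ← Spec.map_comp_assoc]
      change Spec.map _ ≫ Spec.map (CommRingCat.ofHom (algebraMap k K)) = _
      rw [← Spec.map_comp]
      exact congrArg Spec.map (CommRingCat.hom_ext (eK.toAlgHom.comp_algebraMap)))
    have hcK : EssDim.resPt K'.val ≫ cK = c := by
      apply Over.OverMorphism.ext
      change Spec.map (CommRingCat.ofHom (K'.val : K' →+* L)) ≫ Spec.map _ = _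
      rw [← hγ, ← Spec.map_comp]
      exact congrArg Spec.map (CommRingCat.hom_ext (RingHom.ext fun _ => rfl))
    let s' : Z.obj.obj.obj (op (SGA7.pt (K := k) K')) := Z.obj.obj.map cK.op p.val
    have hs' : Z.obj.obj.map (EssDim.resPt K'.val).op s' = s := by
      have h := congrArg (AlgSp.J (Spec (CommRingCat.of k))).uliftYonedaEquiv hc'
      rw [← GrothendieckTopology.uliftYonedaEquiv_naturality] at h
      simp only [q, FieldPt.toHom, Equiv.apply_symm_apply] at h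
      change Z.obj.obj.map (EssDim.resPt K'.val).op (Z.obj.obj.map cK.op p.val) = s
      rw [← Functor.map_comp_apply, ← op_comp, hcK]
      exact h.trans (Equiv.apply_symm_apply _ s)
    let m : (⟨W, s⟩ : (AlgSt.ofSp Z.obj).obj) ⟶ ⟨SGA7.pt (K := k) K', s'⟩ := ⟨EssDim.resPt K'.val, hs'⟩
    let Φ : AlgSt.ofSp Z.obj ⥤ᵇ 𝒳 := BasedFunctor.comp e (FibCat.fpSnd G F)
    haveI : (AlgSt.ofSp Z.obj).p.IsHomLift (EssDim.resPt K'.val) m :=
      IsHomLift.map (AlgSt.ofSp Z.obj).p m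
    have hm : 𝒳.p.IsHomLift (EssDim.resPt K'.val) (Φ.map m) := inferInstance
    have h1 : 𝒳.p.IsHomLift (𝟙 W) ((FibCat.fpSnd G F).map et.inv) :=
      (BasedFunctor.isHomLift_iff (FibCat.fpSnd G F) (𝟙 W) et.inv).2 (het.inv.lift rfl)
    refine ⟨⟨Φ.obj ⟨_, s'⟩, Φ.w_obj _⟩, (FibCat.fpSnd G F).map et.inv ≫ Φ.map m, ?_⟩
    haveI := h1
    haveI := hm
    exact IsHomLift.comp_lift_id_left' 𝒳.p W ((FibCat.fpSnd G F).map et.inv) (EssDim.resPt K'.val) (Φ.map m)
  · have e₁ : Algebra.trdeg k γ'.fieldRange = Algebra.trdeg k p.K := (AlgEquiv.ofInjectiveField γ').trdeg_eq.symm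
    rw [e₁, ← trdeg_add_eq k K (A := p.K), map_add]
    exact add_le_add le_rfl (trdeg_le Z.property π hlft hdim p g hg.symm δ hδ.symm)

end Groth.L23.EssDimRel

namespace Groth.L23.EssDimRel

variable {k : Type u} [Field k]

theorem edStAt_le (𝒳 𝒴 : AlgSt.Cat (Spec (CommRingCat.of k)))
    [FibCat.IsFibGrpd 𝒳.p] [FibCat.IsFibGrpd 𝒴.p] (F : 𝒳 ⥤ᵇ 𝒴) (d : ℕ)
    (hF : AlgSt.RepByAlgSpWith
      (AlgSp.LocP @LocallyOfFiniteType ⊓ AlgSp.IsQuasiSeparatedMor ⊓ fun _ _ g => CurvSt.RelDimLE d g) F)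
    {L : Type u} [Field L] [Algebra k L] (x : StkCnt.pts 𝒳 L) :
    EssDim.edStAt 𝒳 x ≤ EssDim.edStAt 𝒴 ⟨F.obj x.1, (F.w_obj x.1).trans x.2⟩ + d := by
  haveI : Nonempty {K : IntermediateField k L //
      EssDim.Descends (Gerb.isoClPsh 𝒴) (Quot.mk (Gerb.IsoRel 𝒴 (SGA7.pt (K := k) L))
        ⟨F.obj x.1, (F.w_obj x.1).trans x.2⟩) K} := ⟨⟨⊤, EssDim.descends_top _⟩⟩
  rw [EssDim.edStAt, EssDim.edStAt]
  conv_rhs => rw [EssDim.edAt, ENat.iInf_add]
  refine le_iInf fun ⟨K, hK⟩ => ?_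
  obtain ⟨y₀, φ, hφ⟩ := (EssDim.descends_isoCl_iff 𝒴 _ K).1 hK
  obtain ⟨K', hK', hle⟩ := descends_image 𝒳 𝒴 F d hF x K y₀ φ hφ
  exact (EssDim.edAt_le_of_descends ((EssDim.descends_isoCl_iff 𝒳 x K').2 hK')).trans hle

end Groth.L23.EssDimRel
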