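import Groth.Agent.L23.SpaceTrdeg
import Groth.Agent.L23.DimFunSch
import Groth.Agent.L23.FieldMono
import Groth.Prelude.Def_StCurv2

/-!
# Transcendence degree of residue fields of points of spaces of bounded relative dimension over a field
-/

universe u

open CategoryTheory CategoryTheory.Limits AlgebraicGeometry Opposite AlgSp

set_option backward.isDefEq.respectTransparency false
set_option backward.isDefEq.respectTransparency.types false
set_option linter.style.haveILetI false

namespace Groth.L23.EssDimRel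

theorem trdeg_eq_resTrdeg {K : Type u} [Field K] {A : Scheme.{u}}
    (f : A ⟶ Spec (CommRingCat.of K)) (x : A) (ψ : CommRingCat.of K ⟶ A.residueField x)
    (h : A.fromSpecResidueField x ≫ f = Spec.map ψ) :
    letI := ψ.hom.toAlgebra
    Algebra.trdeg K (A.residueField x) = Dual3.resTrdeg f x := by
  let e₀ : CommRingCat.of K ⟶ (Spec (CommRingCat.of K)).residueField (f x) :=
    CommRingCat.ofHom (algebraMap K _) ≫ (Scheme.Spec.residueFieldIso (CommRingCat.of K) (f x)).inv
  have he₀ : Spec.map e₀ = (Spec (CommRingCat.of K)).fromSpecResidueField (f x) := by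
    rw [Spec.map_comp]
    exact Scheme.Spec.map_residueFieldIso_inv_eq_fromSpecResidueField (CommRingCat.of K) (f x)
  have hψ : ψ = e₀ ≫ f.residueFieldMap x := by
    apply Spec.map_injective
    rw [Spec.map_comp, he₀, ← h, Scheme.Hom.SpecMap_residueFieldMap_fromSpecResidueField]
  have hb : Function.Bijective e₀.hom := by
    refine ⟨e₀.hom.injective, ?_⟩
    have hm : (f x).asIdeal.IsMaximal := by
      have : (f x).asIdeal = ⊥ := (Ideal.eq_bot_or_top _).resolve_right (f x).isPrime.ne_top
      rw [this]; exact Ideal.bot_isMaximal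
    have h₁ : Function.Surjective (algebraMap K (f x).asIdeal.ResidueField) := by
      rw [IsScalarTower.algebraMap_eq K (K ⧸ (f x).asIdeal) (f x).asIdeal.ResidueField]
      exact (Ideal.bijective_algebraMap_quotient_residueField _).2.comp Ideal.Quotient.mk_surjective
    exact (Scheme.Spec.residueFieldIso (CommRingCat.of K) (f x)).symm.commRingCatIsoToRingEquiv.surjective.comp h₁
  letI := ψ.hom.toAlgebra
  letI := (f.residueFieldMap x).hom.toAlgebra
  refine Groth.L22.Cyc.trdeg_eq_of_square (RingEquiv.ofBijective e₀.hom hb) (RingEquiv.refl _) fun a => ?_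
  change ψ.hom a = (f.residueFieldMap x).hom (e₀.hom a)
  rw [hψ]
  rfl

variable {S : Scheme.{u}}

/-- A monomorphic field point of a space of relative dimension at most `d` over a field has
transcendence degree at most `d`. -/
theorem trdeg_le {F : Sp S} (hF : IsAlgSpace F) {K : Type u} [Field K]
    {str : Spec (CommRingCat.of K) ⟶ S} (π : F ⟶ (yon S).obj (Over.mk str))
    (hlft : LocP @LocallyOfFiniteType π) {d : ℕ} (hd : CurvSt.RelDimLE d π)
    (p : FieldPt F) [Mono p.toHom] (g : p.pt ⟶ Over.mk str) (hg : p.toHom ≫ π = (yon S).map g)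
    (δ : CommRingCat.of K ⟶ CommRingCat.of p.K) (hδ : g.left = Spec.map δ) :
    letI := δ.hom.toAlgebra
    Cardinal.toENat (Algebra.trdeg K p.K) ≤ (d : ℕ∞) := by
  obtain ⟨U, V, a, b, h, u, ha, hb, w, hu, hdim⟩ := hd (Points.mk p)
  obtain ⟨b', rfl⟩ := (yon S).map_surjective b
  haveI : LocallyOfFiniteType h.left := hlft a _ h ha hb w
  have hw : a ≫ π = (yon S).map (h ≫ b') := by rw [Functor.map_comp]; exact w
  obtain ⟨c, hc, -⟩ := existsUnique_factor hF p (FieldPt.ofPt a u) (by exact hu.symm)
  obtain ⟨γ, hγ⟩ := Spec.map_surjective (R := CommRingCat.of p.K) (S := U.left.residueField u) c.left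
  let ι : (FieldPt.ofPt a u).pt ⟶ U := Over.homMk (U.left.fromSpecResidueField u) rfl
  have hι : (FieldPt.ofPt a u).toHom = (yon S).map ι ≫ a := by
    apply (AlgSp.J S).uliftYonedaEquiv.injective
    rw [GrothendieckTopology.uliftYonedaEquiv_comp, GrothendieckTopology.uliftYonedaEquiv_uliftYoneda_map]
    rw [FieldPt.toHom, Equiv.apply_symm_apply]
    rfl
  have e : c ≫ g = ι ≫ h ≫ b' := by
    apply (yon S).map_injective
    rw [Functor.map_comp, ← hg, ← Category.assoc, hc, hι, Category.assoc, hw, ← Functor.map_comp]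
  let ψ : CommRingCat.of K ⟶ U.left.residueField u := δ ≫ γ
  have e' : U.left.fromSpecResidueField u ≫ (h ≫ b').left = Spec.map ψ := by
    have := congrArg CommaMorphism.left e
    simp only [Over.comp_left] at this
    rw [Spec.map_comp, hγ, ← hδ]
    exact this.symm
  letI := δ.hom.toAlgebra
  letI : Algebra p.K (U.left.residueField u) := γ.hom.toAlgebra
  letI : Algebra K (U.left.residueField u) := ψ.hom.toAlgebra
  haveI : IsScalarTower K p.K (U.left.residueField u) := IsScalarTower.of_algebraMap_eq fun _ => rfl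
  have h₁ : Algebra.trdeg K p.K ≤ Algebra.trdeg K (U.left.residueField u) :=
    trdeg_le_of_injective (IsScalarTower.toAlgHom K p.K _) γ.hom.injective
  haveI : Etale b'.left := (repWith_yon_map_iff _ _).1 hb
  have h₂ : Algebra.trdeg K (U.left.residueField u) = Dual3.resTrdeg h.left u := by
    rw [trdeg_eq_resTrdeg (h ≫ b').left u ψ e', Trdeg.resTrdeg_congr (show (h ≫ b').left = h.left ≫ b'.left from rfl),
      Trdeg.resTrdeg_comp, Trdeg.resTrdeg_eq_zero_of_locallyQuasiFinite b'.left, zero_add]
  have h₃ : ((Cardinal.toENat (Dual3.resTrdeg h.left u) : ℕ∞) : WithBot ℕ∞) ≤ (d : WithBot ℕ∞) := by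
    refine le_trans ?_ hdim
    rw [Trdeg.fibreDimAt_eq_add h.left u]
    exact le_add_of_nonneg_left ringKrullDim_nonneg_of_nontrivial
  calc Cardinal.toENat (Algebra.trdeg K p.K) ≤ Cardinal.toENat (Algebra.trdeg K (U.left.residueField u)) :=
        Cardinal.toENat.monotone' h₁
    _ = Cardinal.toENat (Dual3.resTrdeg h.left u) := by rw [h₂]
    _ ≤ (d : ℕ∞) := WithBot.coe_le_coe.1 h₃

end Groth.L23.EssDimRel
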